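import Mathlib

set_option autoImplicit false
set_option linter.style.haveILetI false
universe u

namespace Groth.Agent.H17.Jac

open Ideal

/-- In a Noetherian domain in which every nonzero prime contains a fixed nonzero element `g`,
every nonzero prime is minimal over `(g)`. -/
theorem mem_minimalPrimes_of_forall_mem {R : Type u} [CommRing R] [IsDomain R]
    [IsNoetherianRing R] (g : R) (hg : g ≠ 0)
    (h : ∀ p : Ideal R, p.IsPrime → p ≠ ⊥ → g ∈ p) (p : Ideal R) (hp : p.IsPrime) (hp0 : p ≠ ⊥) :
    p ∈ (Ideal.span {g}).minimalPrimes := by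
  classical
  have hfin := Ideal.finite_minimalPrimes_of_isNoetherianRing R (Ideal.span {g})
  have hgp : Ideal.span {g} ≤ p := (Ideal.span_singleton_le_iff_mem (I := p)).mpr (h p hp hp0)
  -- every element of `p` lies in a minimal prime over `(g)`
  have hcover : (p : Set R) ⊆ ⋃ m ∈ (hfin.toFinset : Set (Ideal R)), (m : Set R) := by
    intro x hx
    by_cases hx0 : x = 0
    · obtain ⟨m, hm, -⟩ := Ideal.exists_minimalPrimes_le hgp
      refine Set.mem_iUnion₂.mpr ⟨m, by simpa using hm, ?_⟩
      rw [hx0]; exact m.zero_mem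
    · have hxp : Ideal.span {x} ≤ p := (Ideal.span_singleton_le_iff_mem (I := p)).mpr hx
      obtain ⟨p', hp', hp'p⟩ := Ideal.exists_minimalPrimes_le hxp
      have hp'prime : p'.IsPrime := hp'.1.1
      have hxp' : x ∈ p' := hp'.1.2 (Ideal.mem_span_singleton_self x)
      have hp'0 : p' ≠ ⊥ := fun e => hx0 (by rw [e] at hxp'; exact hxp')
      have hgp' : Ideal.span {g} ≤ p' :=
        (Ideal.span_singleton_le_iff_mem (I := p')).mpr (h p' hp'prime hp'0)
      obtain ⟨m, hm, hmp'⟩ := Ideal.exists_minimalPrimes_le hgp'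
      have hmprime : m.IsPrime := hm.1.1
      have hgm : g ∈ m := hm.1.2 (Ideal.mem_span_singleton_self g)
      have hm0 : m ≠ ⊥ := fun e => hg (by rw [e] at hgm; exact hgm)
      have hht : p'.height ≤ 1 :=
        Ideal.height_le_one_of_isPrincipal_of_mem_minimalPrimes (Ideal.span {x}) p' hp'
      have hmeq : m = p' := by
        by_contra hne
        have hlt : m < p' := lt_of_le_of_ne hmp' hne
        have h1 : m.height < p'.height := Ideal.height_strict_mono_of_isPrime_of_isPrime hlt
        have h2 : m.height = 0 := by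
          have : m.height < 1 := lt_of_lt_of_le h1 hht
          exact Order.lt_one_iff.mp this
        exact hm0 (Ideal.height_eq_zero_iff_eq_bot.mp h2)
      refine Set.mem_iUnion₂.mpr ⟨m, by simpa using hm, ?_⟩
      rw [hmeq]; exact hxp'
  have hprime : ∀ m ∈ hfin.toFinset, m ≠ (⊥ : Ideal R) → m ≠ (⊥ : Ideal R) → m.IsPrime := by
    intro m hm _ _
    have : m ∈ (Ideal.span {g}).minimalPrimes := by simpa using hm
    exact this.1.1
  obtain ⟨m, hm, hpm⟩ := (Ideal.subset_union_prime (s := hfin.toFinset) (f := fun m => m)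
    (⊥ : Ideal R) (⊥ : Ideal R) hprime).mp hcover
  have hm' : m ∈ (Ideal.span {g}).minimalPrimes := by simpa using hm
  have hmp : m ≤ p := hm'.2 ⟨hp, hgp⟩ hpm
  rw [← le_antisymm hmp hpm]
  exact hm'


/-- such a ring, if not a field, is a semi-local domain of dimension one -/
theorem finite_maximalSpectrum_and_dim_eq_one {R : Type u} [CommRing R] [IsDomain R]
    [IsNoetherianRing R] (g : R) (hg : g ≠ 0)
    (h : ∀ p : Ideal R, p.IsPrime → p ≠ ⊥ → g ∈ p) (hfield : ¬ IsField R) :
    Finite (MaximalSpectrum R) ∧ ringKrullDim R = 1 := by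
  have hfin := Ideal.finite_minimalPrimes_of_isNoetherianRing R (Ideal.span {g})
  have key := mem_minimalPrimes_of_forall_mem g hg h
  have hmax0 : ∀ m : Ideal R, m.IsMaximal → m ≠ ⊥ := by
    intro m hm e
    apply hfield
    rw [e] at hm
    exact Ring.isField_iff_maximal_bot.mpr hm
  refine ⟨?_, ?_⟩
  · haveI : Finite ↥((Ideal.span {g}).minimalPrimes) := hfin.to_subtype
    refine Finite.of_injective
      (fun m : MaximalSpectrum R => (⟨m.asIdeal, key m.asIdeal m.isMaximal.isPrime
        (hmax0 _ m.isMaximal)⟩ : ↥((Ideal.span {g}).minimalPrimes))) ?_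
    intro m m' hmm'
    have : m.asIdeal = m'.asIdeal := congrArg Subtype.val hmm'
    exact MaximalSpectrum.ext this
  · apply le_antisymm
    · have : Ring.KrullDimLE 1 R := by
        refine Ring.KrullDimLE.mk₁' fun I hI0 hI => ?_
        obtain ⟨m, hm, hIm⟩ := Ideal.exists_le_maximal I hI.ne_top
        have hm' := key m hm.isPrime (hmax0 m hm)
        have hI' := key I hI hI0
        have : m ≤ I := hm'.2 hI'.1 hIm
        rw [le_antisymm hIm this]
        exact hm
      exact Ring.krullDimLE_iff.mp this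
    · obtain ⟨p, hp0, hp⟩ := Ring.not_isField_iff_exists_prime.mp hfield
      have hlt : (⟨⊥, Ideal.isPrime_bot⟩ : PrimeSpectrum R) < ⟨p, hp⟩ := by
        change (⊥ : Ideal R) < p
        exact bot_lt_iff_ne_bot.mpr hp0
      exact Order.one_le_krullDim_iff.mpr ⟨_, _, hlt⟩


/-- a Noetherian ring which is not Jacobson has a quotient which is a semi-local domain of
dimension one -/
theorem exists_prime_quotient_of_not_isJacobsonRing {A : Type u} [CommRing A] [IsNoetherianRing A]
    (hA : ¬ IsJacobsonRing A) :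
    ∃ q : Ideal A, q.IsPrime ∧ Finite (MaximalSpectrum (A ⧸ q)) ∧ ringKrullDim (A ⧸ q) = 1 := by
  rw [isJacobsonRing_iff_prime_eq] at hA
  push Not at hA
  obtain ⟨P, hP, hPj⟩ := hA
  have hnle : ¬ (P.jacobson : Set A) ⊆ P := fun h => hPj (le_antisymm h Ideal.le_jacobson)
  obtain ⟨f, hfj, hfP⟩ := Set.not_subset.mp hnle
  let S : Set (Ideal A) := {q | q.IsPrime ∧ P ≤ q ∧ f ∉ q}
  have hSne : S.Nonempty := ⟨P, hP, le_rfl, hfP⟩
  obtain ⟨q, hqS, hqmax⟩ := set_has_maximal_iff_noetherian.mpr
    (inferInstance : IsNoetherian A A) S hSne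
  obtain ⟨hq, hPq, hfq⟩ := hqS
  replace hq : Ideal.IsPrime (q : Ideal A) := hq
  refine ⟨q, hq, ?_⟩
  haveI := hq
  apply finite_maximalSpectrum_and_dim_eq_one (Ideal.Quotient.mk q f)
  · rwa [Ne, Ideal.Quotient.eq_zero_iff_mem]
  · intro p hp hp0
    have hp' : (p.comap (Ideal.Quotient.mk q)).IsPrime := Ideal.comap_isPrime _ _
    have hle : q ≤ p.comap (Ideal.Quotient.mk q) := by
      intro a ha
      rw [Ideal.mem_comap, Ideal.Quotient.eq_zero_iff_mem.mpr ha]
      exact p.zero_mem
    have hne : q ≠ p.comap (Ideal.Quotient.mk q) := by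
      intro e
      apply hp0
      rw [← Ideal.map_comap_of_surjective _ Ideal.Quotient.mk_surjective p, ← e]
      exact Ideal.map_quotient_self q
    by_contra hfp
    exact hqmax _ ⟨hp', hPq.trans hle, hfp⟩ (lt_of_le_of_ne hle hne)
  · intro hF
    have hqmax' : Ideal.IsMaximal (q : Ideal A) := Ideal.Quotient.maximal_of_isField q hF
    have : P.jacobson ≤ q := sInf_le ⟨hPq, hqmax'⟩
    exact hfq (this hfj)


/-- a Jacobson domain with finitely many maximal ideals is a field -/
theorem isField_of_isJacobsonRing_of_finite {R : Type u} [CommRing R] [IsDomain R]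
    [IsJacobsonRing R] [Finite (MaximalSpectrum R)] : IsField R := by
  classical
  haveI : Fintype (MaximalSpectrum R) := Fintype.ofFinite _
  have hbot : (⊥ : Ideal R).jacobson = ⊥ :=
    IsJacobsonRing.out inferInstance Ideal.isPrime_bot.isRadical
  let s : Finset (Ideal R) := Finset.univ.image (fun m : MaximalSpectrum R => m.asIdeal)
  have hle : s.inf id ≤ (⊥ : Ideal R) := by
    rw [← hbot]
    refine le_sInf ?_
    rintro J ⟨-, hJ⟩
    have : J ∈ s := Finset.mem_image.mpr ⟨⟨J, hJ⟩, Finset.mem_univ _, rfl⟩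
    exact Finset.inf_le (f := id) this
  obtain ⟨m, hm, hmle⟩ := (Ideal.IsPrime.inf_le' (Ideal.isPrime_bot (α := R))).mp hle
  obtain ⟨m', -, rfl⟩ := Finset.mem_image.mp hm
  have : m'.asIdeal = ⊥ := le_bot_iff.mp hmle
  rw [Ring.isField_iff_maximal_bot, ← this]
  exact m'.isMaximal

end Groth.Agent.H17.Jac
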